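import Groth.Agent.H1DFun.KillConst
import Groth.Agent.H1DFun.TorsionAcyclic
import Groth.Agent.H1DFun.FiniteConstEmbed
import Groth.Agent.H1DFun.PushClass
import Groth.Agent.H26EtPull.Basic
import Groth.Agent.H18LccSplit.Vanish

/-!
# Dévissage of pullback maps on cohomology: compatibility with finite direct images
-/

set_option autoImplicit false
set_option linter.style.haveILetI false
set_option backward.isDefEq.respectTransparency false
set_option backward.isDefEq.respectTransparency.types false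

universe u

open CategoryTheory CategoryTheory.Limits AlgebraicGeometry Opposite Abelian
open Groth.Agent.H18Et Groth.Agent.H1Lim Groth.Agent.H1DFun
open scoped Groth.Agent.H18Et DirectSum

namespace Groth.Agent.H18Devissage

attribute [local instance] Groth.Agent.H18Et.pull_preservesFiniteLimits

theorem pushCongr_hom_symm {A B : Scheme.{u}} {a b : A ⟶ B} (e : a = b) (H : EtCoh.Ab A) :
    (EtCoh.pushCongr e).hom.app H ≫ (EtCoh.pushCongr e.symm).hom.app H = 𝟙 _ := by
  subst e
  rw [H26EtPull.pushCongr_refl, Category.id_comp]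

section Square

variable {X X' Y Y' : Scheme.{u}} (p : X' ⟶ X) (h : Y ⟶ X) (p' : Y' ⟶ Y) (h' : Y' ⟶ X') (w : h' ≫ p = p' ≫ h)
  (G : EtCoh.Ab X')

/-- The two ways of comparing a pullback of a direct image with a pullback. -/
theorem comp_counit_eq :
    (EtCore.pullCongr w).hom.app _ ≫ (EtCore.pullComp p' h).hom.app ((EtCoh.push p).obj G) ≫
      (EtCoh.pull p').map (EtCoh.baseChange0 p h p' h' w G) ≫
        (EtCoh.pullPushAdj p').counit.app ((EtCoh.pull h').obj G) =
      (EtCore.pullComp h' p).hom.app ((EtCoh.push p).obj G) ≫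
        (EtCoh.pull h').map ((EtCoh.pullPushAdj p).counit.app G) := by
  apply ((EtCoh.pullPushAdj (h' ≫ p)).homEquiv _ _).injective
  rw [H26EtPull.homEquiv_pullCongr, H26EtPull.homEquiv_pullComp, H26EtPull.homEquiv_pullComp]
  have h1 : (EtCoh.pullPushAdj p').homEquiv _ _
      ((EtCoh.pull p').map (EtCoh.baseChange0 p h p' h' w G) ≫
        (EtCoh.pullPushAdj p').counit.app ((EtCoh.pull h').obj G)) = EtCoh.baseChange0 p h p' h' w G :=
    (congrArg _ (Adjunction.homEquiv_counit (adj := EtCoh.pullPushAdj p') (g := EtCoh.baseChange0 p h p' h' w G)).symm).trans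
      (Equiv.apply_symm_apply _ _)
  have h2 : (EtCoh.pullPushAdj p).homEquiv _ _ ((EtCoh.pullPushAdj h').homEquiv _ _
      ((EtCoh.pull h').map ((EtCoh.pullPushAdj p).counit.app G))) =
      (EtCoh.push p).map ((EtCoh.pullPushAdj h').unit.app G) := by
    rw [← Category.comp_id ((EtCoh.pull h').map ((EtCoh.pullPushAdj p).counit.app G)),
      Adjunction.homEquiv_naturality_left, Adjunction.homEquiv_id, Adjunction.homEquiv_unit,
      Functor.map_comp, ← Category.assoc]
    erw [(EtCoh.pullPushAdj p).right_triangle_components]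
    rw [Category.id_comp]
    rfl
  erw [h1, h2]
  dsimp only [EtCoh.baseChange0, Functor.id_obj]
  rw [Equiv.apply_symm_apply, Category.assoc, Category.assoc, Category.assoc]
  simp only [Category.assoc, Iso.inv_hom_id_app_assoc]
  refine congrArg (_ ≫ ·) ?_
  rw [pushCongr_hom_symm]
  exact Category.comp_id _

variable (q : ℕ)

/-- The comparison with the cohomology of the source of a finite morphism. -/
noncomputable def pushCls (x : Sheaf.H ((EtCoh.push p).obj G) q) : Sheaf.H G q :=
  Sheaf.H.map ((EtCoh.pullPushAdj p).counit.app G) q (hpull p ((EtCoh.push p).obj G) q x)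

/-- The comparison on the base change. -/
noncomputable def pullPushCls (y : Sheaf.H ((EtCoh.pull h).obj ((EtCoh.push p).obj G)) q) :
    Sheaf.H ((EtCoh.pull h').obj G) q :=
  Sheaf.H.map ((EtCoh.pull p').map (EtCoh.baseChange0 p h p' h' w G) ≫
    (EtCoh.pullPushAdj p').counit.app ((EtCoh.pull h').obj G)) q (hpull p' _ q y)

/-- Pullback commutes with the comparisons. -/
theorem pullPushCls_hpull (x : Sheaf.H ((EtCoh.push p).obj G) q) :
    pullPushCls p h p' h' w G q (hpull h _ q x) = hpull h' G q (pushCls p G q x) := by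
  unfold pullPushCls pushCls
  refine Eq.trans ?_ (Hpull_map h' ((EtCoh.pullPushAdj p).counit.app G) q _).symm
  have c1 : hpull p' _ q (hpull h ((EtCoh.push p).obj G) q x) =
      Sheaf.H.map ((EtCore.pullComp p' h).hom.app _) q (hpull (p' ≫ h) _ q x) :=
    H26EtPull.Hpull_comp p' h _ q x
  have c2 : hpull h' _ q (hpull p ((EtCoh.push p).obj G) q x) =
      Sheaf.H.map ((EtCore.pullComp h' p).hom.app _) q (hpull (h' ≫ p) _ q x) :=
    H26EtPull.Hpull_comp h' p _ q x
  have c3 : hpull (p' ≫ h) ((EtCoh.push p).obj G) q x =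
      Sheaf.H.map ((EtCore.pullCongr w).hom.app _) q (hpull (h' ≫ p) _ q x) :=
    H26EtPull.Hpull_congr w _ q x
  let z := hpull (h' ≫ p) ((EtCoh.push p).obj G) q x
  let k₁ := (EtCoh.pull p').map (EtCoh.baseChange0 p h p' h' w G) ≫
    (EtCoh.pullPushAdj p').counit.app ((EtCoh.pull h').obj G)
  let k₂ : (EtCoh.pull h').obj ((EtCoh.pull p).obj ((EtCoh.push p).obj G)) ⟶ (EtCoh.pull h').obj G :=
    (EtCoh.pull h').map ((EtCoh.pullPushAdj p).counit.app G)
  calc Sheaf.H.map k₁ q (hpull p' _ q (hpull h ((EtCoh.push p).obj G) q x))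
      = Sheaf.H.map k₁ q (Sheaf.H.map ((EtCore.pullComp p' h).hom.app _) q
          (Sheaf.H.map ((EtCore.pullCongr w).hom.app _) q z)) := by rw [c1, c3]
    _ = Sheaf.H.map ((EtCore.pullCongr w).hom.app _ ≫ (EtCore.pullComp p' h).hom.app _ ≫ k₁) q z :=
        (H_map_map _ k₁ q _).trans (H_map_map _ _ q z)
    _ = Sheaf.H.map ((EtCore.pullComp h' p).hom.app _ ≫ k₂) q z :=
        congrArg (fun k => Sheaf.H.map k q z) (comp_counit_eq p h p' h' w G)
    _ = Sheaf.H.map k₂ q (Sheaf.H.map ((EtCore.pullComp h' p).hom.app _) q z) := (H_map_map _ k₂ q z).symm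
    _ = Sheaf.H.map k₂ q (hpull h' _ q (hpull p ((EtCoh.push p).obj G) q x)) := congrArg _ c2.symm

theorem pushCls_bijective [IsIntegralHom p] : Function.Bijective (pushCls p G q) := by
  have hb := hpull_map_bijective p (𝟙 ((EtCoh.push p).obj G)) q
  rw [CategoryTheory.Functor.map_id, Category.id_comp] at hb
  exact hb

theorem pullPushCls_bijective [IsIntegralHom p] (sq : IsPullback h' p' p h) :
    Function.Bijective (pullPushCls p h p' h' sq.w G q) := by
  haveI : IsIntegralHom p' := MorphismProperty.of_isPullback (P := @IsIntegralHom) sq ‹_›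
  haveI := isIso_baseChange0_of_isIntegralHom p h p' h' sq G
  exact hpull_map_bijective p' (EtCoh.baseChange0 p h p' h' sq.w G) q

end Square

variable {X Y : Scheme.{u}} (h : Y ⟶ X) (n : ℕ)

/-- Injective in degree zero and surjective up to degree `n`. -/
def InjSurj (F : EtCoh.Ab X) : Prop :=
  Function.Injective (hpull h F 0) ∧ ∀ i ≤ n, Function.Surjective (hpull h F i)

theorem injSurj_of_total {ι : Type*} [Fintype ι] {F : EtCoh.Ab X} (G : ι → EtCoh.Ab X) (π : ∀ k, F ⟶ G k)
    (j : ∀ k, G k ⟶ F) (tot : ∑ k, π k ≫ j k = 𝟙 F) (hG : ∀ k, InjSurj h n (G k)) : InjSurj h n F := by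
  constructor
  · refine (injective_iff_map_eq_zero _).2 fun x hx => ?_
    have hk : ∀ k, Sheaf.H.map (π k) 0 x = 0 := fun k => (hG k).1 (by rw [Hpull_map, hx, map_zero, map_zero])
    rw [← Ext.comp_mk₀_id x, ← tot, Ext.mk₀_sum, Ext.comp_sum]
    refine Finset.sum_eq_zero fun k _ => ?_
    rw [← Ext.mk₀_comp_mk₀, ← Ext.comp_assoc_of_second_deg_zero,
      show x.comp (Ext.mk₀ (π k)) (add_zero 0) = 0 from hk k, Ext.zero_comp]
  · intro i hi y
    haveI : (EtCoh.pull h).IsLeftAdjoint := ⟨_, ⟨EtCoh.pullPushAdj h⟩⟩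
    haveI : (EtCoh.pull h).Additive := Functor.additive_of_preserves_binary_products _
    choose x hx using fun k => (hG k).2 i hi (Sheaf.H.map ((EtCoh.pull h).map (π k)) i y)
    refine ⟨∑ k, Sheaf.H.map (j k) i (x k), ?_⟩
    have ht := congrArg (EtCoh.pull h).map tot
    rw [Functor.map_sum, CategoryTheory.Functor.map_id] at ht
    rw [map_sum]
    conv_rhs => rw [← Ext.comp_mk₀_id y, ← ht, Ext.mk₀_sum, Ext.comp_sum]
    refine Finset.sum_congr rfl fun k _ => ?_
    rw [Hpull_map, hx, H_map_map, Sheaf.H.map_apply, Functor.map_comp]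

theorem injSurj_biproduct {m : ℕ} (G : Fin m → EtCoh.Ab X) (hG : ∀ k, InjSurj h n (G k)) :
    InjSurj h n (⨁ G) :=
  injSurj_of_total h n G (biproduct.π G) (biproduct.ι G) biproduct.total hG

/-- Constant finite `ℓ`-primary coefficients follow from cyclic ones. -/
theorem injSurj_const (ℓ : ℕ) (hℓ : ℓ.Prime) (hcyc : ∀ ν : ℕ, InjSurj h n (EtCoh.const X (ZMod (ℓ ^ ν))))
    (M : Type) [AddCommGroup M] [Finite M] (k : ℕ) (hM : ∀ m : M, ℓ ^ k • m = 0) :
    InjSurj h n (EtCoh.const X M) := by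
  classical
  obtain ⟨ι, hι, p, hp, e, ⟨φ⟩⟩ := AddCommGroup.equiv_directSum_zmod_of_finite M
  have hν : ∀ i, ∃ ν, p i ^ e i = ℓ ^ ν := fun i => by
    by_cases hpl : p i = ℓ
    · exact ⟨e i, by rw [hpl]⟩
    have h1 := hM (φ.symm (DirectSum.of (fun i => ZMod (p i ^ e i)) i 1))
    rw [← map_nsmul, ← φ.symm.map_zero] at h1
    have h2 := congrArg (fun x : ⨁ j, ZMod (p j ^ e j) => x i) (φ.symm.injective h1)
    simp only [← map_nsmul, DirectSum.of_eq_same, DirectSum.zero_apply, nsmul_eq_mul, mul_one] at h2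
    have h3 := (CharP.cast_eq_zero_iff (ZMod (p i ^ e i)) (p i ^ e i) _).1 h2
    refine ⟨0, ?_⟩
    rw [pow_zero]
    exact Nat.Coprime.eq_one_of_dvd (((Nat.coprime_primes (hp i) hℓ).2 hpl).pow _ _) h3
  have hfac : ∀ i, InjSurj h n (EtCoh.const X (ZMod (p i ^ e i))) := fun i => by
    obtain ⟨ν, hν⟩ := hν i
    rw [hν]
    exact hcyc ν
  let Φ := constantSheaf X.smallEtaleTopology AddCommGrpCat.{u + 1}
  let up : ∀ (A B : Type) [AddCommGroup A] [AddCommGroup B], (A →+ B) →
      (AddCommGrpCat.of (ULift.{u + 1} A) ⟶ AddCommGrpCat.of (ULift.{u + 1} B)) := fun A B _ _ f =>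
    AddCommGrpCat.ofHom ((AddEquiv.ulift.symm.toAddMonoidHom.comp f).comp AddEquiv.ulift.toAddMonoidHom)
  let a : ∀ i, AddCommGrpCat.of (ULift.{u + 1} M) ⟶ AddCommGrpCat.of (ULift.{u + 1} (ZMod (p i ^ e i))) :=
    fun i => up M _ ((DFinsupp.evalAddMonoidHom i).comp φ.toAddMonoidHom)
  let b : ∀ i, AddCommGrpCat.of (ULift.{u + 1} (ZMod (p i ^ e i))) ⟶ AddCommGrpCat.of (ULift.{u + 1} M) :=
    fun i => up _ M (φ.symm.toAddMonoidHom.comp (DirectSum.of (fun i => ZMod (p i ^ e i)) i))
  refine injSurj_of_total h n (fun i => EtCoh.const X (ZMod (p i ^ e i))) (fun i => Φ.map (a i))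
    (fun i => Φ.map (b i)) ?_ hfac
  haveI : Φ.Additive := Functor.additive_of_preserves_binary_products _
  simp only [← Φ.map_comp, ← Functor.map_sum]
  rw [← CategoryTheory.Functor.map_id]
  refine congrArg Φ.map (AddCommGrpCat.hom_ext (AddMonoidHom.ext fun x => ULift.ext _ _ ?_))
  rw [show (∑ i, a i ≫ b i).hom = ∑ i, (a i ≫ b i).hom from map_sum AddCommGrpCat.homAddEquiv _ _,
    AddMonoidHom.finsetSum_apply]
  refine (map_sum (AddEquiv.ulift (α := M)) _ _).trans ?_
  show ∑ i, φ.symm (DirectSum.of (fun i => ZMod (p i ^ e i)) i (φ x.down i)) = x.down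
  rw [← map_sum, DirectSum.sum_univ_of, φ.symm_apply_apply]

/-- Direct images along finite morphisms. -/
theorem injSurj_push {X' : Scheme.{u}} (p : X' ⟶ X) [IsIntegralHom p] (G : EtCoh.Ab X')
    (hG : InjSurj (pullback.fst p h) n G) : InjSurj h n ((EtCoh.push p).obj G) := by
  have sq := IsPullback.of_hasPullback p h
  constructor
  · intro x y e
    apply (pushCls_bijective p G 0).1
    apply hG.1
    rw [← pullPushCls_hpull p h (pullback.snd p h) (pullback.fst p h) sq.w, e, pullPushCls_hpull]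
  · intro i hi y
    obtain ⟨z, hz⟩ := hG.2 i hi (pullPushCls p h (pullback.snd p h) (pullback.fst p h) sq.w G i y)
    obtain ⟨x, rfl⟩ := (pushCls_bijective p G i).2 z
    refine ⟨x, (pullPushCls_bijective p h (pullback.snd p h) (pullback.fst p h) G i sq).1 ?_⟩
    rw [pullPushCls_hpull]
    exact hz

end Groth.Agent.H18Devissage
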