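import Groth.Agent.H18Devissage.Basic

/-!
# Dévissage of pullback maps: from constant sheaves on finite schemes to primary torsion sheaves
-/

set_option autoImplicit false
set_option linter.style.haveILetI false
set_option backward.isDefEq.respectTransparency false
set_option backward.isDefEq.respectTransparency.types false

universe u

open CategoryTheory CategoryTheory.Limits AlgebraicGeometry Opposite Abelian
open Groth.Agent.H18Et Groth.Agent.H1Lim Groth.Agent.H1DFun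
open scoped Groth.Agent.H18Et Groth.Agent.H18Et.CohColim

namespace Groth.Agent.H18Devissage

attribute [local instance] Groth.Agent.H18Et.pull_preservesFiniteLimits

variable {X Y : Scheme.{u}} (h : Y ⟶ X) (ℓ : ℕ)

theorem isConstructible_of_flc (F : EtCoh.Ab X) (hF : EtCoh.IsFiniteLocallyConstant F) :
    EtPBC.IsConstructible F := by
  refine (Cons.isConstructible_iff F).2 (Cons.locAdapted_of_covered (Cons.flc_precomp _) fun U hU => ?_)
  haveI : IsAffine U.toScheme := hU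
  exact ⟨1, fun _ => U.toScheme, fun _ => 𝟙 _, fun _ => inferInstance,
    fun _ => by simpa using IsConstructible.univ, by simp [Set.iUnion_const],
    fun _ => LC.isFiniteLocallyConstant_pull _ hF⟩

theorem hom_ext_stalk {F G : EtCoh.Ab X} (a b : F ⟶ G)
    (he : ∀ (Ω : Type u) [Field Ω] [IsSepClosed Ω] (ξ : Spec (CommRingCat.of Ω) ⟶ X),
      (EtCoh.stalk ξ).map a = (EtCoh.stalk ξ).map b) : a = b := by
  refine Sheaf.hom_ext (NatTrans.ext (funext fun U => AddCommGrpCat.hom_ext (AddMonoidHom.ext fun s => ?_)))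
  refine sect_ext' _ _ fun x => ⟨_, inferInstance, SeparableClosure.isSepClosed _, geomPt x, geomPt_base x,
    fun z => ?_⟩
  haveI : IsSepClosed (SeparableClosure (X.residueField x)) := SeparableClosure.isSepClosed _
  refine ((germ_naturality (geomPt x) a U.unop z s).symm.trans ?_).trans (germ_naturality (geomPt x) b U.unop z s)
  rw [he]

/-- The stalks are `ℓ`-primary torsion. -/
def StalkPrimary (F : EtCoh.Ab X) : Prop :=
  ∀ (Ω : Type u) [Field Ω] [IsSepClosed Ω] (ξ : Spec (CommRingCat.of Ω) ⟶ X) (p : (EtCoh.stalk ξ).obj F),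
    ∃ j : ℕ, ℓ ^ j • p = 0

theorem stalkPrimary_of_bounded {F : EtCoh.Ab X} {k : ℕ} (hF : (ℓ ^ k) • 𝟙 F = 0) : StalkPrimary ℓ F := by
  intro Ω _ _ ξ p
  haveI : (EtCoh.stalk ξ).Additive := inferInstance
  have h' := congrArg (EtCoh.stalk ξ).map hF
  rw [Functor.map_nsmul, CategoryTheory.Functor.map_id, Functor.map_zero] at h'
  exact ⟨k, ConcreteCategory.congr_hom h' p⟩

theorem isTorsion_of_stalkPrimary (hℓ : 0 < ℓ) {F : EtCoh.Ab X} (hF : StalkPrimary ℓ F) : EtCoh.IsTorsion F :=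
  (H18Et.Coh.isTorsion_iff_stalk F).2 fun Ω _ _ ξ p =>
    let ⟨j, hj⟩ := hF Ω ξ p
    isOfFinAddOrder_iff_nsmul_eq_zero.2 ⟨ℓ ^ j, pow_pos hℓ j, hj⟩

/-- The constructible sheaves killed by a power of `ℓ`. -/
abbrev Bdd (C : EtCoh.Ab X) : Prop := ∃ k : ℕ, (ℓ ^ k) • 𝟙 C = 0

theorem bdd_isZero (C : EtCoh.Ab X) (hC : IsZero C) : Bdd ℓ C := ⟨0, hC.eq_of_src _ _⟩

theorem bdd_of_epi {A B : EtCoh.Ab X} (g : A ⟶ B) [Epi g] (hA : Bdd ℓ A) : Bdd ℓ B := by
  obtain ⟨k, hk⟩ := hA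
  refine ⟨k, (cancel_epi g).1 ?_⟩
  rw [Preadditive.comp_nsmul, Category.comp_id, ← Category.id_comp g, ← Preadditive.nsmul_comp, hk,
    zero_comp, Category.id_comp, comp_zero]

theorem bdd_biprod {A B : EtCoh.Ab X} (hA : Bdd ℓ A) (hB : Bdd ℓ B) : Bdd ℓ (A ⊞ B) := by
  obtain ⟨a, ha⟩ := hA
  obtain ⟨b, hb⟩ := hB
  have h1 : (ℓ ^ (a + b)) • 𝟙 A = 0 := by rw [pow_add, mul_comm, mul_smul, ha, smul_zero]
  have h2 : (ℓ ^ (a + b)) • 𝟙 B = 0 := by rw [pow_add, mul_smul, hb, smul_zero]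
  refine ⟨a + b, biprod.hom_ext _ _ ?_ ?_⟩
  · rw [Preadditive.nsmul_comp, Category.id_comp, zero_comp, ← Category.comp_id biprod.fst,
      ← Preadditive.comp_nsmul, h1, comp_zero]
  · rw [Preadditive.nsmul_comp, Category.id_comp, zero_comp, ← Category.comp_id biprod.snd,
      ← Preadditive.comp_nsmul, h2, comp_zero]

theorem exists_factor_bdd [CompactSpace X] [QuasiSeparatedSpace X] (hℓ : ℓ.Prime) {F : EtCoh.Ab X}
    (hF : StalkPrimary ℓ F) {C : EtCoh.Ab X} (f : C ⟶ F) (hC : EtPBC.IsConstructible C) :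
    ∃ (C' : EtCoh.Ab X) (g : C ⟶ C') (q : C' ⟶ F), EtPBC.IsConstructible C' ∧ Bdd ℓ C' ∧ g ≫ q = f := by
  obtain ⟨N, hN0, hN⟩ := Cons.exists_killedBy C hC
  obtain ⟨e, m, hm, rfl⟩ := Nat.exists_eq_pow_mul_and_not_dvd hN0.out ℓ hℓ.ne_one
  let a : C ⟶ C := (ℓ ^ e) • 𝟙 C
  have hCN : (ℓ ^ e * m) • 𝟙 C = 0 := (killedBy_iff_nsmul_id _ _).1 hN
  have hf : a ≫ f = 0 := by
    refine hom_ext_stalk _ _ fun Ω _ _ ξ => ?_
    haveI : (EtCoh.stalk ξ).Additive := inferInstance
    ext p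
    rw [Preadditive.nsmul_comp, Category.id_comp, Functor.map_nsmul, Functor.map_zero]
    show (ℓ ^ e) • ((EtCoh.stalk ξ).map f p) = 0
    let w : (EtCoh.stalk ξ).obj F := (ℓ ^ e) • ((EtCoh.stalk ξ).map f p)
    obtain ⟨j, hj⟩ := hF Ω ξ w
    have hmw : m • w = 0 := by
      have h' := congrArg (EtCoh.stalk ξ).map hCN
      rw [Functor.map_nsmul, CategoryTheory.Functor.map_id, Functor.map_zero] at h'
      have hp : (ℓ ^ e * m) • p = 0 := ConcreteCategory.congr_hom h' p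
      show m • (ℓ ^ e) • ((EtCoh.stalk ξ).map f p) = 0
      rw [← mul_smul, mul_comm, ← map_nsmul, hp, map_zero]
    have hc : Nat.Coprime m (ℓ ^ j) := Nat.Coprime.pow_right _ ((hℓ.coprime_iff_not_dvd.2 hm).symm)
    exact AddMonoid.addOrderOf_eq_one_iff.1 (Nat.eq_one_of_dvd_coprimes hc
      (addOrderOf_dvd_of_nsmul_eq_zero hmw) (addOrderOf_dvd_of_nsmul_eq_zero hj))
  refine ⟨cokernel a, cokernel.π a, cokernel.desc a f hf, (Cons.isConstructible_kernel_cokernel a hC hC).2,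
    ⟨e, (cancel_epi (cokernel.π a)).1 ?_⟩, cokernel.π_desc _ _ _⟩
  rw [Preadditive.comp_nsmul, Category.comp_id, comp_zero, ← Category.id_comp (cokernel.π a),
    ← Preadditive.nsmul_comp]
  exact cokernel.condition a

variable [CompactSpace X] [QuasiSeparatedSpace X] [CompactSpace Y] [QuasiSeparatedSpace Y]

/-- The cohomology of a primary torsion sheaf comes from bounded constructible ones, on `X` and on `Y`. -/
theorem colimit_passage (hℓ : ℓ.Prime) (i : ℕ) :
    ((∀ C : EtCoh.Ab X, EtPBC.IsConstructible C → Bdd ℓ C → Function.Injective (hpull h C i)) →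
      ∀ F : EtCoh.Ab X, StalkPrimary ℓ F → Function.Injective (hpull h F i)) ∧
    ((∀ C : EtCoh.Ab X, EtPBC.IsConstructible C → Bdd ℓ C → Function.Surjective (hpull h C i)) →
      ∀ F : EtCoh.Ab X, StalkPrimary ℓ F → Function.Surjective (hpull h F i)) := by
  haveI : (EtCoh.pull h).IsLeftAdjoint := ⟨_, ⟨EtCoh.pullPushAdj h⟩⟩
  have key : ∀ F : EtCoh.Ab X, StalkPrimary ℓ F →
      ((∀ y : Sheaf.H ((EtCoh.pull h).obj F) i,
        ∃ (j : Cons.IdxCat F (Bdd ℓ)) (z : Sheaf.H ((EtCoh.pull h).obj ((Cons.idxDiagram F (Bdd ℓ)).obj j)) i),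
          Sheaf.H.map ((EtCoh.pull h).map ((Cons.idxCocone F (Bdd ℓ)).ι.app j)) i z = y) ∧
      (∀ x : Sheaf.H F i, ∃ (j : Cons.IdxCat F (Bdd ℓ)) (z : Sheaf.H ((Cons.idxDiagram F (Bdd ℓ)).obj j) i),
          Sheaf.H.map ((Cons.idxCocone F (Bdd ℓ)).ι.app j) i z = x)) ∧
      ∀ (j : Cons.IdxCat F (Bdd ℓ)) (z : Sheaf.H ((EtCoh.pull h).obj ((Cons.idxDiagram F (Bdd ℓ)).obj j)) i),
        Sheaf.H.map ((EtCoh.pull h).map ((Cons.idxCocone F (Bdd ℓ)).ι.app j)) i z = 0 →
          ∃ (l : Cons.IdxCat F (Bdd ℓ)) (t : j ⟶ l),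
            Sheaf.H.map ((EtCoh.pull h).map ((Cons.idxDiagram F (Bdd ℓ)).map t)) i z = 0 := fun F hF => by
    let Q : EtCoh.Ab X → Prop := Bdd ℓ
    haveI := Cons.isFiltered_idxCat (F := F) (Q := Q) (fun C hC => bdd_isZero ℓ C hC)
      (fun _ _ _ _ hA hB => bdd_biprod ℓ hA hB) (fun g _ _ hA => bdd_of_epi ℓ g hA)
    obtain ⟨hc⟩ := Cons.nonempty_isColimit_idxCocone (F := F) (Q := Q) (fun C hC => bdd_isZero ℓ C hC)
      (fun _ _ _ _ hA hB => bdd_biprod ℓ hA hB) (fun g _ _ hA => bdd_of_epi ℓ g hA)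
      (fun {C} f hC => exists_factor_bdd ℓ hℓ hF f hC) (isTorsion_of_stalkPrimary ℓ hℓ.pos hF)
    let D₀ := Cons.idxDiagram F Q
    let D := D₀ ⋙ EtCoh.pull h
    have hc' := isColimitOfPreserves (EtCoh.pull h) hc
    let e₀ : (Cons.idxCocone F Q).pt ≅ colimit D₀ := hc.coconePointUniqueUpToIso (colimit.isColimit D₀)
    let e : ((EtCoh.pull h).mapCocone (Cons.idxCocone F Q)).pt ≅ colimit D :=
      hc'.coconePointUniqueUpToIso (colimit.isColimit D)
    have sY : ∀ y : Sheaf.H ((EtCoh.pull h).obj F) i, ∃ (j : Cons.IdxCat F Q) (z : Sheaf.H (D.obj j) i),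
        Sheaf.H.map ((EtCoh.pull h).map ((Cons.idxCocone F Q).ι.app j)) i z = y := fun y => by
      obtain ⟨j, z, hz⟩ := (CohColim.hSurj_hInj i D).1 (Sheaf.H.map e.hom i y)
      refine ⟨j, z, H_map_injective e i ?_⟩
      rw [hz.symm]
      refine (H_map_map _ _ i z).trans ?_
      exact congrArg (fun φ => Sheaf.H.map φ i z)
        (IsColimit.comp_coconePointUniqueUpToIso_hom hc' (colimit.isColimit D) j)
    have sX : ∀ x : Sheaf.H F i, ∃ (j : Cons.IdxCat F Q) (z : Sheaf.H (D₀.obj j) i),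
        Sheaf.H.map ((Cons.idxCocone F Q).ι.app j) i z = x := fun x => by
      obtain ⟨j, z, hz⟩ := (CohColim.hSurj_hInj i D₀).1 (Sheaf.H.map e₀.hom i x)
      refine ⟨j, z, H_map_injective e₀ i ?_⟩
      rw [hz.symm]
      refine (H_map_map _ _ i z).trans ?_
      exact congrArg (fun φ => Sheaf.H.map φ i z)
        (IsColimit.comp_coconePointUniqueUpToIso_hom hc (colimit.isColimit D₀) j)
    have iY : ∀ (j : Cons.IdxCat F Q) (z : Sheaf.H (D.obj j) i),
        Sheaf.H.map ((EtCoh.pull h).map ((Cons.idxCocone F Q).ι.app j)) i z = 0 →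
          ∃ (l : Cons.IdxCat F Q) (t : j ⟶ l), Sheaf.H.map (D.map t) i z = 0 := fun j z hz => by
      refine (CohColim.hSurj_hInj i D).2 j z ?_
      have hcj : colimit.ι D j = (EtCoh.pull h).map ((Cons.idxCocone F Q).ι.app j) ≫ e.hom :=
        (IsColimit.comp_coconePointUniqueUpToIso_hom hc' (colimit.isColimit D) j).symm
      refine (congrArg (fun φ => Sheaf.H.map φ i z) hcj).trans ?_
      refine (H_map_map _ e.hom i z).symm.trans ?_
      exact (congrArg (Sheaf.H.map e.hom i) hz).trans (map_zero _)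
    exact And.intro (And.intro sY sX) iY
  refine ⟨fun hC F hF => (injective_iff_map_eq_zero _).2 fun x hx => ?_, fun hC F hF y => ?_⟩
  · obtain ⟨⟨-, sX⟩, iY⟩ := key F hF
    obtain ⟨j, z, rfl⟩ := sX x
    let f : (Cons.idxDiagram F (Bdd ℓ)).obj j ⟶ F := (Cons.idxCocone F (Bdd ℓ)).ι.app j
    have hx' : Sheaf.H.map ((EtCoh.pull h).map f) i (hpull h _ i z) = 0 := (Hpull_map h f i z).symm.trans hx
    obtain ⟨l, t, ht⟩ := iY j _ hx'
    have h0 : Sheaf.H.map ((Cons.idxDiagram F (Bdd ℓ)).map t) i z = 0 := by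
      refine hC _ (Cons.Idx.isConstructible l) (Cons.Idx.prop l) ?_
      refine Eq.trans ?_ (map_zero _).symm
      exact (Hpull_map h ((Cons.idxDiagram F (Bdd ℓ)).map t) i z).trans ht
    let g : (Cons.idxDiagram F (Bdd ℓ)).obj l ⟶ F := (Cons.idxCocone F (Bdd ℓ)).ι.app l
    show Sheaf.H.map f i z = 0
    have hw : f = (Cons.idxDiagram F (Bdd ℓ)).map t ≫ g := ((Cons.idxCocone F (Bdd ℓ)).w t).symm
    rw [hw, ← H_map_map, h0, map_zero]
  · obtain ⟨⟨sY, -⟩, -⟩ := key F hF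
    obtain ⟨j, z, rfl⟩ := sY y
    obtain ⟨x, rfl⟩ := hC _ (Cons.Idx.isConstructible j) (Cons.Idx.prop j) z
    exact ⟨_, Hpull_map h _ i x⟩

theorem H0_map_injective {Z : Scheme.{u}} {F G : EtCoh.Ab Z} (f : F ⟶ G) [Mono f] :
    Function.Injective (Sheaf.H.map f 0) := by
  refine (injective_iff_map_eq_zero _).2 fun x hx => ?_
  obtain ⟨a, rfl⟩ := (Ext.mk₀_bijective _ _).2 x
  have hx' : Ext.mk₀ (a ≫ f) = Ext.mk₀ 0 := by
    rw [Ext.mk₀_zero, ← Ext.mk₀_comp_mk₀]
    exact hx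
  have ha := (Ext.mk₀_bijective _ _).1 hx'
  rw [(cancel_mono f).1 (ha.trans zero_comp.symm), Ext.mk₀_zero]

/-- A bounded sheaf embeds in a bounded sheaf without higher cohomology. -/
theorem exists_mono_bdd_acyclic (hℓ : ℓ.Prime) (F : EtCoh.Ab X) (hF : Bdd ℓ F) :
    ∃ (G : EtCoh.Ab X) (ι : F ⟶ G), Mono ι ∧ Bdd ℓ G ∧ ∀ q, Subsingleton (Sheaf.H G (q + 1)) := by
  obtain ⟨k, hk⟩ := hF
  let J := Injective.under F
  let ι : F ⟶ kernel ((ℓ ^ k) • 𝟙 J) := kernel.lift _ (Injective.ι F) (by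
    rw [Preadditive.comp_nsmul, Category.comp_id, ← Category.id_comp (Injective.ι F), ← Preadditive.nsmul_comp,
      hk, zero_comp])
  haveI : Mono (ι ≫ kernel.ι ((ℓ ^ k) • 𝟙 J)) := by rw [kernel.lift_ι]; infer_instance
  refine ⟨_, ι, mono_of_mono ι (kernel.ι _), ⟨k, (cancel_mono (kernel.ι ((ℓ ^ k) • 𝟙 J))).1 ?_⟩,
    fun q => subsingleton_H_kernel_nsmul J _ (pow_ne_zero k hℓ.ne_zero) q⟩
  rw [Preadditive.nsmul_comp, Category.id_comp, zero_comp]
  have h0 := kernel.condition ((ℓ ^ k) • 𝟙 J)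
  rwa [Preadditive.comp_nsmul, Category.comp_id] at h0

variable (n : ℕ)

/-- A constructible bounded sheaf embeds into one with the comparison property. -/
theorem exists_mono_injSurj (hℓ : ℓ.Prime)
    (hb : ∀ (X' : Scheme.{u}) (p : X' ⟶ X), IsFinite p → ∀ ν : ℕ,
      InjSurj (pullback.fst p h) n (EtCoh.const X' (ZMod (ℓ ^ ν))))
    (C : EtCoh.Ab X) (hC : EtPBC.IsConstructible C) (hCb : Bdd ℓ C) :
    ∃ (I : EtCoh.Ab X) (ι : C ⟶ I), Mono ι ∧ EtPBC.IsConstructible (cokernel ι) ∧ Bdd ℓ I ∧ InjSurj h n I := by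
  obtain ⟨k, hk⟩ := hCb
  obtain ⟨m, Z, f, hf, hfp, M, iM, iF, ι, hι⟩ := exists_mono_finite_const C hC
  let Mk : ∀ i, AddSubgroup (M i) := fun i => (nsmulAddMonoidHom (ℓ ^ k) : M i →+ M i).ker
  let I₀ : Fin m → EtCoh.Ab X := fun i => (EtCoh.push (f i)).obj (EtCoh.const (Z i) (Mk i))
  let up : ∀ (A B : Type) [AddCommGroup A] [AddCommGroup B], (A →+ B) →
      (AddCommGrpCat.of (ULift.{u + 1} A) ⟶ AddCommGrpCat.of (ULift.{u + 1} B)) := fun A B _ _ g =>
    AddCommGrpCat.ofHom ((AddEquiv.ulift.symm.toAddMonoidHom.comp g).comp AddEquiv.ulift.toAddMonoidHom)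
  let T : ∀ i, AddCommGrpCat.{u + 1} ⥤ EtCoh.Ab X := fun i =>
    constantSheaf (Z i).smallEtaleTopology AddCommGrpCat.{u + 1} ⋙ EtCoh.push (f i)
  have hfac : ∀ i, ∃ g : C ⟶ I₀ i, g ≫ (T i).map (up _ _ (Mk i).subtype) =
      ι ≫ biproduct.π (fun i => (EtCoh.push (f i)).obj (EtCoh.const (Z i) (M i))) i := fun i => by
    haveI : (EtCoh.push (f i)).IsRightAdjoint := ⟨_, ⟨EtCoh.pullPushAdj (f i)⟩⟩
    haveI : PreservesFiniteLimits (EtCoh.push (f i)) :=
      ((EtCoh.pullPushAdj (f i)).rightAdjoint_preservesLimits : PreservesLimitsOfSize.{0, 0} _).preservesFiniteLimits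
    haveI : PreservesFiniteLimits (T i) := comp_preservesFiniteLimits _ _
    haveI : (T i).Additive := Functor.additive_of_preserves_binary_products _
    let A := AddCommGrpCat.of (ULift.{u + 1} (M i))
    have hz : up _ _ (Mk i).subtype ≫ ((ℓ ^ k) • 𝟙 A) = 0 := by
      ext a
      exact a.down.2
    let S : ShortComplex AddCommGrpCat.{u + 1} := ShortComplex.mk (up _ _ (Mk i).subtype) ((ℓ ^ k) • 𝟙 A) hz
    have hSm : Mono S.f := (AddCommGrpCat.mono_iff_injective _).2 fun a b e =>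
      ULift.ext _ _ (Subtype.ext (congrArg ULift.down e))
    have hSe : S.Exact := by
      rw [ShortComplex.ab_exact_iff]
      intro a ha
      exact ⟨⟨⟨a.down, congrArg ULift.down ha⟩⟩, rfl⟩
    have hE : (S.map (T i)).Exact := hSe.map_of_mono_of_preservesKernel (T i) hSm inferInstance
    haveI : Mono (S.map (T i)).f := (T i).map_mono S.f
    refine ⟨hE.lift (ι ≫ biproduct.π _ i) ?_, hE.lift_f _ _⟩
    show (ι ≫ biproduct.π _ i) ≫ (T i).map ((ℓ ^ k) • 𝟙 A) = 0
    rw [Functor.map_nsmul, CategoryTheory.Functor.map_id, Preadditive.comp_nsmul]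
    erw [Category.comp_id]
    rw [
      ← Category.id_comp ι, Category.assoc, ← Preadditive.nsmul_comp, hk, zero_comp]
  choose g hg using hfac
  haveI : Mono (biproduct.lift g) := by
    haveI : Mono (biproduct.lift g ≫ biproduct.map fun i => (T i).map (up _ _ (Mk i).subtype)) := by
      have e : (biproduct.lift g ≫ biproduct.map fun i => (T i).map (up _ _ (Mk i).subtype)) = ι :=
        biproduct.hom_ext _ _ fun i => by rw [Category.assoc, biproduct.map_π, biproduct.lift_π_assoc]; exact hg i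
      rw [e]
      exact hι
    exact mono_of_mono (biproduct.lift g) (biproduct.map fun i => (T i).map (up _ _ (Mk i).subtype))
  have hMk : ∀ i (a : Mk i), (ℓ ^ k) • a = 0 := fun i a => Subtype.ext a.2
  refine ⟨⨁ I₀, biproduct.lift g, inferInstance, (Cons.isConstructible_kernel_cokernel _ hC ?_).2, ⟨k, ?_⟩,
    injSurj_biproduct h n I₀ fun i => ?_⟩
  · exact Cons.isConstructible_biproduct _ fun i =>
      @Cons.isConstructible_push_finite _ _ (f i) (hf i) (hfp i) _
        (isConstructible_of_flc _ (LC.isFiniteLocallyConstant_const _))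
  · refine biproduct.hom_ext _ _ fun i => ?_
    haveI : (EtCoh.push (f i)).IsRightAdjoint := ⟨_, ⟨EtCoh.pullPushAdj (f i)⟩⟩
    haveI : (EtCoh.push (f i)).Additive := Functor.additive_of_preserves_binary_products _
    have h0 : (ℓ ^ k) • 𝟙 (I₀ i) = 0 := by
      have h1 := congrArg (EtCoh.push (f i)).map (killedBy_const (Z := Z i) (Mk i) (ℓ ^ k) (hMk i))
      rwa [Functor.map_nsmul, CategoryTheory.Functor.map_id, Functor.map_zero] at h1
    rw [Preadditive.nsmul_comp, Category.id_comp, zero_comp, ← Category.comp_id (biproduct.π I₀ i),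
      ← Preadditive.comp_nsmul, h0, comp_zero]
  · haveI := hf i
    haveI : IsFinite (f i) := hf i
    exact injSurj_push h n (f i) _
      (injSurj_const (pullback.fst (f i) h) n ℓ hℓ (hb _ (f i) (hf i)) (Mk i) k (hMk i))

/-- **Dévissage**: comparison for constant coefficients on all finite schemes over the base gives
comparison for all primary torsion sheaves. -/
theorem bijective_of_finite_const (hℓ : ℓ.Prime)
    (hb : ∀ (X' : Scheme.{u}) (p : X' ⟶ X), IsFinite p → ∀ ν : ℕ,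
      InjSurj (pullback.fst p h) n (EtCoh.const X' (ZMod (ℓ ^ ν)))) :
    (∀ i ≤ n, ∀ F : EtCoh.Ab X, StalkPrimary ℓ F → Function.Bijective (hpull h F i)) ∧
      ∀ F : EtCoh.Ab X, StalkPrimary ℓ F → Function.Injective (hpull h F (n + 1)) := by
  have surj_step : ∀ i ≤ n, (∀ F : EtCoh.Ab X, StalkPrimary ℓ F → Function.Injective (hpull h F i)) →
      (∀ j, j + 1 = i → ∀ F : EtCoh.Ab X, StalkPrimary ℓ F → Function.Surjective (hpull h F j)) →
      ∀ C : EtCoh.Ab X, EtPBC.IsConstructible C → Bdd ℓ C → Function.Surjective (hpull h C i) := by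
    intro i hi hinj hprev C hC hCb y
    obtain ⟨I, ι, hι, hQ, hIb, hI⟩ := exists_mono_injSurj h ℓ n hℓ hb C hC hCb
    haveI := hι
    let S := ShortComplex.mk ι (cokernel.π ι) (cokernel.condition ι)
    have hS : S.ShortExact := { exact := ShortComplex.exact_of_g_is_cokernel _ (cokernelIsCokernel ι) }
    have hS' := hS.map_of_exact (EtCoh.pull h)
    obtain ⟨k, hk⟩ := bdd_of_epi ℓ S.g hIb
    have hQp : StalkPrimary ℓ S.X₃ := stalkPrimary_of_bounded ℓ hk
    obtain ⟨w, hw⟩ := hI.2 i hi (Sheaf.H.map ((EtCoh.pull h).map ι) i y)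
    have hgw : Sheaf.H.map S.g i w = 0 := by
      refine hinj _ hQp ?_
      rw [map_zero, Hpull_map, hw, H_map_map, ← Functor.map_comp]
      rw [show ι ≫ S.g = 0 from cokernel.condition ι]
      exact (congrArg (fun φ => Sheaf.H.map φ i y) (Functor.map_zero _ _ _)).trans
        ((congrArg (fun e => Ext.comp _ e (add_zero i)) (Ext.mk₀_zero _ _)).trans (Ext.comp_zero _ _ _ _ _))
    obtain ⟨x₀, hx₀⟩ := Ext.covariant_sequence_exact₂ _ hS w hgw
    let d := y - hpull h C i x₀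
    have hd : Sheaf.H.map ((EtCoh.pull h).map ι) i d = 0 := by
      rw [map_sub, ← Hpull_map, show Sheaf.H.map ι i x₀ = w from hx₀, hw, sub_self]
    suffices ∃ x, hpull h C i x = d by
      obtain ⟨x, hx⟩ := this
      exact ⟨x₀ + x, by rw [map_add, hx, add_sub_cancel]⟩
    rcases i with _ | j
    · haveI : Mono ((EtCoh.pull h).map ι) := inferInstance
      exact ⟨0, by rw [H0_map_injective ((EtCoh.pull h).map ι) (hd.trans (map_zero _).symm), map_zero]⟩
    · obtain ⟨v, hv⟩ := Ext.covariant_sequence_exact₁ _ hS' d hd rfl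
      obtain ⟨z, rfl⟩ := hprev j rfl S.X₃ hQp v
      exact ⟨_, (Hpull_extClass h hS j z).trans hv⟩
  have zero_inj : ∀ F : EtCoh.Ab X, StalkPrimary ℓ F → Function.Injective (hpull h F 0) :=
    (colimit_passage h ℓ hℓ 0).1 fun C hC hCb => by
      obtain ⟨I, ι, hι, -, -, hI⟩ := exists_mono_injSurj h ℓ n hℓ hb C hC hCb
      haveI := hι
      refine (injective_iff_map_eq_zero _).2 fun x hx => H0_map_injective ι ?_
      refine (hI.1 ?_).trans (map_zero _).symm
      rw [Hpull_map, hx, map_zero, map_zero]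
  have succ_inj : ∀ i, (∀ F : EtCoh.Ab X, StalkPrimary ℓ F → Function.Bijective (hpull h F i)) →
      ∀ F : EtCoh.Ab X, StalkPrimary ℓ F → Function.Injective (hpull h F (i + 1)) := fun i hbij =>
    (colimit_passage h ℓ hℓ (i + 1)).1 fun C _ hCb => by
      obtain ⟨G, ι, hι, hGb, hG⟩ := exists_mono_bdd_acyclic ℓ hℓ C hCb
      haveI := hι
      let S := ShortComplex.mk ι (cokernel.π ι) (cokernel.condition ι)
      have hS : S.ShortExact := { exact := ShortComplex.exact_of_g_is_cokernel _ (cokernelIsCokernel ι) }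
      obtain ⟨k, hk⟩ := hGb
      obtain ⟨k', hk'⟩ := bdd_of_epi ℓ S.g ⟨k, hk⟩
      refine (injective_iff_map_eq_zero _).2 fun x hx => ?_
      obtain ⟨z, rfl⟩ := Ext.covariant_sequence_exact₁ _ hS x ((hG i).elim _ _) rfl
      have hz := (Hpull_extClass h hS i z).symm.trans hx
      obtain ⟨v, hv⟩ := Ext.covariant_sequence_exact₃ _ (hS.map_of_exact (EtCoh.pull h)) _ rfl hz
      obtain ⟨ζ, rfl⟩ := (hbij S.X₂ (stalkPrimary_of_bounded ℓ hk)).2 v
      have hζ : Sheaf.H.map S.g i ζ = z :=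
        (hbij S.X₃ (stalkPrimary_of_bounded ℓ hk')).1 ((Hpull_map h S.g i ζ).trans hv)
      rw [← hζ, Sheaf.H.map_apply, Ext.comp_assoc_of_second_deg_zero, hS.comp_extClass, Ext.comp_zero]
  have main : ∀ i ≤ n, ∀ F : EtCoh.Ab X, StalkPrimary ℓ F → Function.Bijective (hpull h F i) := by
    intro i
    induction i with
    | zero => exact fun hi F hF => ⟨zero_inj F hF, (colimit_passage h ℓ hℓ 0).2
        (surj_step 0 hi zero_inj (fun j hj => absurd hj (Nat.succ_ne_zero j))) F hF⟩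
    | succ i ih =>
      intro hi F hF
      refine ⟨succ_inj i (ih (by omega)) F hF, (colimit_passage h ℓ hℓ (i + 1)).2
        (surj_step (i + 1) hi (succ_inj i (ih (by omega))) fun j hj => ?_) F hF⟩
      obtain rfl : j = i := by omega
      exact fun G hG => (ih (by omega) G hG).2
  exact ⟨main, succ_inj n (main n le_rfl)⟩

end Groth.Agent.H18Devissage
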