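import Groth.Agent.H18Devissage.Main

/-!
# Dévissage for torsion sheaves of arbitrary order
-/

set_option autoImplicit false
set_option linter.style.haveILetI false
set_option backward.isDefEq.respectTransparency false
set_option backward.isDefEq.respectTransparency.types false

universe u

open CategoryTheory CategoryTheory.Limits AlgebraicGeometry Opposite Abelian
open Groth.Agent.H18Et Groth.Agent.H1Lim Groth.Agent.H1DFun
open scoped Groth.Agent.H18Et Groth.Agent.H18Et.CohColim

namespace Groth.Agent.H18Devissage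

attribute [local instance] Groth.Agent.H18Et.pull_preservesFiniteLimits

variable {X Y : Scheme.{u}} (h : Y ⟶ X) [CompactSpace X] [QuasiSeparatedSpace X] [CompactSpace Y]
  [QuasiSeparatedSpace Y]

/-- The cohomology of a torsion sheaf comes from constructible ones, on `X` and on `Y`. -/
theorem colimit_passage_torsion (i : ℕ) :
    ((∀ C : EtCoh.Ab X, EtPBC.IsConstructible C → Function.Injective (hpull h C i)) →
      ∀ F : EtCoh.Ab X, EtCoh.IsTorsion F → Function.Injective (hpull h F i)) ∧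
    ((∀ C : EtCoh.Ab X, EtPBC.IsConstructible C → Function.Surjective (hpull h C i)) →
      ∀ F : EtCoh.Ab X, EtCoh.IsTorsion F → Function.Surjective (hpull h F i)) := by
  haveI : (EtCoh.pull h).IsLeftAdjoint := ⟨_, ⟨EtCoh.pullPushAdj h⟩⟩
  have key : ∀ F : EtCoh.Ab X, EtCoh.IsTorsion F →
      ((∀ y : Sheaf.H ((EtCoh.pull h).obj F) i,
        ∃ (j : Cons.IdxCat F (fun _ => True)) (z : Sheaf.H ((EtCoh.pull h).obj ((Cons.idxDiagram F (fun _ => True)).obj j)) i),
          Sheaf.H.map ((EtCoh.pull h).map ((Cons.idxCocone F (fun _ => True)).ι.app j)) i z = y) ∧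
      (∀ x : Sheaf.H F i, ∃ (j : Cons.IdxCat F (fun _ => True)) (z : Sheaf.H ((Cons.idxDiagram F (fun _ => True)).obj j) i),
          Sheaf.H.map ((Cons.idxCocone F (fun _ => True)).ι.app j) i z = x)) ∧
      ∀ (j : Cons.IdxCat F (fun _ => True)) (z : Sheaf.H ((EtCoh.pull h).obj ((Cons.idxDiagram F (fun _ => True)).obj j)) i),
        Sheaf.H.map ((EtCoh.pull h).map ((Cons.idxCocone F (fun _ => True)).ι.app j)) i z = 0 →
          ∃ (l : Cons.IdxCat F (fun _ => True)) (t : j ⟶ l),
            Sheaf.H.map ((EtCoh.pull h).map ((Cons.idxDiagram F (fun _ => True)).map t)) i z = 0 := fun F hF => by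
    let Q : EtCoh.Ab X → Prop := fun _ => True
    haveI := Cons.isFiltered_idxCat (F := F) (Q := Q) (fun _ _ => trivial)
      (fun _ _ _ _ _ _ => trivial) (fun _ _ _ _ => trivial)
    obtain ⟨hc⟩ := Cons.nonempty_isColimit_idxCocone (F := F) (Q := Q) (fun _ _ => trivial)
      (fun _ _ _ _ _ _ => trivial) (fun _ _ _ _ => trivial)
      (fun {C} f hC => ⟨C, 𝟙 C, f, hC, trivial, Category.id_comp f⟩) hF
    let D₀ := Cons.idxDiagram F Q
    let D := D₀ ⋙ EtCoh.pull h
    have hc' := isColimitOfPreserves (EtCoh.pull h) hc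
    let e₀ : (Cons.idxCocone F Q).pt ≅ colimit D₀ := hc.coconePointUniqueUpToIso (colimit.isColimit D₀)
    let e : ((EtCoh.pull h).mapCocone (Cons.idxCocone F Q)).pt ≅ colimit D :=
      hc'.coconePointUniqueUpToIso (colimit.isColimit D)
    have sY : ∀ y : Sheaf.H ((EtCoh.pull h).obj F) i, ∃ (j : Cons.IdxCat F Q) (z : Sheaf.H (D.obj j) i),
        Sheaf.H.map ((EtCoh.pull h).map ((Cons.idxCocone F Q).ι.app j)) i z = y := fun y => by
      obtain ⟨j, z, hz⟩ := (CohColim.hSurj_hInj i D).1 (Sheaf.H.map e.hom i y)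
      refine ⟨j, z, H_map_injective e i ?_⟩
      rw [hz.symm]
      refine (H_map_map _ _ i z).trans ?_
      exact congrArg (fun φ => Sheaf.H.map φ i z)
        (IsColimit.comp_coconePointUniqueUpToIso_hom hc' (colimit.isColimit D) j)
    have sX : ∀ x : Sheaf.H F i, ∃ (j : Cons.IdxCat F Q) (z : Sheaf.H (D₀.obj j) i),
        Sheaf.H.map ((Cons.idxCocone F Q).ι.app j) i z = x := fun x => by
      obtain ⟨j, z, hz⟩ := (CohColim.hSurj_hInj i D₀).1 (Sheaf.H.map e₀.hom i x)
      refine ⟨j, z, H_map_injective e₀ i ?_⟩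
      rw [hz.symm]
      refine (H_map_map _ _ i z).trans ?_
      exact congrArg (fun φ => Sheaf.H.map φ i z)
        (IsColimit.comp_coconePointUniqueUpToIso_hom hc (colimit.isColimit D₀) j)
    have iY : ∀ (j : Cons.IdxCat F Q) (z : Sheaf.H (D.obj j) i),
        Sheaf.H.map ((EtCoh.pull h).map ((Cons.idxCocone F Q).ι.app j)) i z = 0 →
          ∃ (l : Cons.IdxCat F Q) (t : j ⟶ l), Sheaf.H.map (D.map t) i z = 0 := fun j z hz => by
      refine (CohColim.hSurj_hInj i D).2 j z ?_
      have hcj : colimit.ι D j = (EtCoh.pull h).map ((Cons.idxCocone F Q).ι.app j) ≫ e.hom :=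
        (IsColimit.comp_coconePointUniqueUpToIso_hom hc' (colimit.isColimit D) j).symm
      refine (congrArg (fun φ => Sheaf.H.map φ i z) hcj).trans ?_
      refine (H_map_map _ e.hom i z).symm.trans ?_
      exact (congrArg (Sheaf.H.map e.hom i) hz).trans (map_zero _)
    exact And.intro (And.intro sY sX) iY
  refine ⟨fun hC F hF => (injective_iff_map_eq_zero _).2 fun x hx => ?_, fun hC F hF y => ?_⟩
  · obtain ⟨⟨-, sX⟩, iY⟩ := key F hF
    obtain ⟨j, z, rfl⟩ := sX x
    let f : (Cons.idxDiagram F (fun _ => True)).obj j ⟶ F := (Cons.idxCocone F (fun _ => True)).ι.app j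
    have hx' : Sheaf.H.map ((EtCoh.pull h).map f) i (hpull h _ i z) = 0 := (Hpull_map h f i z).symm.trans hx
    obtain ⟨l, t, ht⟩ := iY j _ hx'
    have h0 : Sheaf.H.map ((Cons.idxDiagram F (fun _ => True)).map t) i z = 0 := by
      refine hC _ (Cons.Idx.isConstructible l) ?_
      refine Eq.trans ?_ (map_zero _).symm
      exact (Hpull_map h ((Cons.idxDiagram F (fun _ => True)).map t) i z).trans ht
    let g : (Cons.idxDiagram F (fun _ => True)).obj l ⟶ F := (Cons.idxCocone F (fun _ => True)).ι.app l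
    show Sheaf.H.map f i z = 0
    have hw : f = (Cons.idxDiagram F (fun _ => True)).map t ≫ g := ((Cons.idxCocone F (fun _ => True)).w t).symm
    rw [hw, ← H_map_map, h0, map_zero]
  · obtain ⟨⟨sY, -⟩, -⟩ := key F hF
    obtain ⟨j, z, rfl⟩ := sY y
    obtain ⟨x, rfl⟩ := hC _ (Cons.Idx.isConstructible j) z
    exact ⟨_, Hpull_map h _ i x⟩

omit [CompactSpace X] [QuasiSeparatedSpace X] [CompactSpace Y] [QuasiSeparatedSpace Y] in
/-- Bijectivity passes to finite sums and their summands. -/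
theorem bijective_of_total (i : ℕ) {F A B : EtCoh.Ab X} (π₁ : F ⟶ A) (j₁ : A ⟶ F) (π₂ : F ⟶ B) (j₂ : B ⟶ F)
    (tot : π₁ ≫ j₁ + π₂ ≫ j₂ = 𝟙 F) (hA : Function.Bijective (hpull h A i))
    (hB : Function.Bijective (hpull h B i)) : Function.Bijective (hpull h F i) := by
  haveI : (EtCoh.pull h).IsLeftAdjoint := ⟨_, ⟨EtCoh.pullPushAdj h⟩⟩
  haveI : (EtCoh.pull h).Additive := Functor.additive_of_preserves_binary_products _
  refine ⟨(injective_iff_map_eq_zero _).2 fun x hx => ?_, fun y => ?_⟩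
  · have h1 : Sheaf.H.map π₁ i x = 0 := hA.1 (by rw [Hpull_map, hx, map_zero, map_zero])
    have h2 : Sheaf.H.map π₂ i x = 0 := hB.1 (by rw [Hpull_map, hx, map_zero, map_zero])
    rw [← Ext.comp_mk₀_id x, ← tot, Ext.mk₀_add, Ext.comp_add]
    rw [show x.comp (Ext.mk₀ (π₁ ≫ j₁)) (add_zero i) = Sheaf.H.map j₁ i (Sheaf.H.map π₁ i x) from
        (H_map_map _ _ i x).symm,
      show x.comp (Ext.mk₀ (π₂ ≫ j₂)) (add_zero i) = Sheaf.H.map j₂ i (Sheaf.H.map π₂ i x) from
        (H_map_map _ _ i x).symm, h1, h2, map_zero, map_zero, add_zero]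
  · obtain ⟨x₁, hx₁⟩ := hA.2 (Sheaf.H.map ((EtCoh.pull h).map π₁) i y)
    obtain ⟨x₂, hx₂⟩ := hB.2 (Sheaf.H.map ((EtCoh.pull h).map π₂) i y)
    refine ⟨Sheaf.H.map j₁ i x₁ + Sheaf.H.map j₂ i x₂, ?_⟩
    have ht := congrArg (EtCoh.pull h).map tot
    rw [Functor.map_add, CategoryTheory.Functor.map_id, Functor.map_comp, Functor.map_comp] at ht
    rw [map_add, Hpull_map, Hpull_map, hx₁, hx₂, H_map_map, H_map_map]
    conv_rhs => rw [← Ext.comp_mk₀_id y, ← ht, Ext.mk₀_add, Ext.comp_add]
    rfl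

/-- Constant cyclic coefficients on finite schemes over the base control all torsion sheaves. -/
theorem bijective_of_finite_const_torsion (n : ℕ)
    (hb : ∀ (X' : Scheme.{u}) (p : X' ⟶ X), IsFinite p → ∀ m : ℕ, 0 < m →
      InjSurj (pullback.fst p h) n (EtCoh.const X' (ZMod m)))
    (i : ℕ) (hi : i ≤ n) (F : EtCoh.Ab X) (hF : EtCoh.IsTorsion F) : Function.Bijective (hpull h F i) := by
  have key : ∀ m : ℕ, 0 < m → ∀ C : EtCoh.Ab X, m • 𝟙 C = 0 → Function.Bijective (hpull h C i) := by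
    intro m
    induction m using Nat.recOnPrimeCoprime with
    | zero => exact fun h0 => absurd h0 (lt_irrefl 0)
    | prime_pow ℓ e hℓ =>
      intro _ C hC
      exact (bijective_of_finite_const h ℓ n hℓ fun X' p hp ν => hb X' p hp _ (pow_pos hℓ.pos ν)).1 i hi C
        (stalkPrimary_of_bounded ℓ hC)
    | coprime a b ha hb' hab iha ihb =>
      intro _ C hC
      obtain ⟨v, -, hv⟩ := Nat.exists_mul_mod_eq_one_of_coprime hab.symm ha
      let A := a • 𝟙 C
      let B := b • 𝟙 C
      let N := a * b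
      have hu : ∃ u, (v * b + u * a) % N = 1 % N := by
        obtain ⟨w, -, hw⟩ := Nat.exists_mul_mod_eq_one_of_coprime hab hb'
        refine ⟨w, ?_⟩
        refine (Nat.modEq_and_modEq_iff_modEq_mul hab).1 ⟨?_, ?_⟩
        · show (v * b + w * a) % a = 1 % a
          rw [Nat.add_mul_mod_self_right, mul_comm v b, hv, Nat.mod_eq_of_lt ha]
        · show (v * b + w * a) % b = 1 % b
          rw [mul_comm v b, Nat.mul_add_mod, mul_comm w a, hw, Nat.mod_eq_of_lt hb']
      obtain ⟨w, hw⟩ := hu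
      have hab0 : ∀ c : ℕ, ((c * a) * b) • 𝟙 C = 0 := fun c => by
        rw [mul_assoc, mul_smul, hC, smul_zero]
      let π₁ : C ⟶ kernel A := kernel.lift A ((v * b) • 𝟙 C) (by
        rw [Preadditive.nsmul_comp, Category.id_comp, ← mul_smul, mul_right_comm, hab0])
      let π₂ : C ⟶ kernel B := kernel.lift B ((w * a) • 𝟙 C) (by
        rw [Preadditive.nsmul_comp, Category.id_comp, ← mul_smul, hab0])
      have tot : π₁ ≫ kernel.ι A + π₂ ≫ kernel.ι B = 𝟙 C := by
        have hN : ∀ c : ℕ, (N * c) • 𝟙 C = 0 := fun c => by rw [mul_comm, mul_smul, hC, smul_zero]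
        rw [kernel.lift_ι, kernel.lift_ι, ← add_nsmul, ← Nat.mod_add_div (v * b + w * a) N, add_nsmul,
          hN, add_zero, hw]
        conv_rhs => rw [← one_nsmul (𝟙 C), ← Nat.mod_add_div 1 N, add_nsmul, hN, add_zero]
      have hkA : a • 𝟙 (kernel A) = 0 := (cancel_mono (kernel.ι A)).1 (by
        rw [Preadditive.nsmul_comp, Category.id_comp, zero_comp, ← Category.comp_id (kernel.ι A),
          ← Preadditive.comp_nsmul]
        exact kernel.condition A)
      have hkB : b • 𝟙 (kernel B) = 0 := (cancel_mono (kernel.ι B)).1 (by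
        rw [Preadditive.nsmul_comp, Category.id_comp, zero_comp, ← Category.comp_id (kernel.ι B),
          ← Preadditive.comp_nsmul]
        exact kernel.condition B)
      exact bijective_of_total h i π₁ (kernel.ι A) π₂ (kernel.ι B) tot
        (iha (by omega) _ hkA) (ihb (by omega) _ hkB)
  have hC : ∀ C : EtCoh.Ab X, EtPBC.IsConstructible C → Function.Bijective (hpull h C i) := fun C hC => by
    obtain ⟨m, hm, hk⟩ := Cons.exists_killedBy C hC
    exact key m (Nat.pos_of_ne_zero hm.out) C ((killedBy_iff_nsmul_id _ _).1 hk)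
  exact ⟨(colimit_passage_torsion h i).1 (fun C hc => (hC C hc).1) F hF,
    (colimit_passage_torsion h i).2 (fun C hc => (hC C hc).2) F hF⟩

end Groth.Agent.H18Devissage
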